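import Groth.Agent.Lib.PBundle2.Values
import Groth.Agent.Lib.BlowUpExist.ChartProper
import Groth.Agent.Lib.VeryAmple11.OfMorph

/-!
The standard charts of a projective bundle over an affine open with a basis.
-/

set_option autoImplicit false
set_option linter.style.haveILetI false
set_option backward.isDefEq.respectTransparency false
set_option backward.isDefEq.respectTransparency.types false

universe u

open CategoryTheory Limits AlgebraicGeometry TopologicalSpace Opposite TensorProduct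

noncomputable section

namespace Groth.Agent.PBundle2

open Groth.Agent.M1

variable {X T P : Scheme.{u}} {E : X.Modules} {U : X.Opens} {n : ℕ} {π : P ⟶ X} {O1 : P.Modules}
  (q : (Scheme.Modules.pullback π).obj E ⟶ O1)

/-- The section of `O(1)` given by a section of the module. -/
def sg (e : Γ(E, U)) : Γ(O1, π ⁻¹ᵁ U) := q.app (π ⁻¹ᵁ U) (M2.pullSec π E e)

theorem invertible (hP : KRR.IsProjBundle π E O1 q) : PicF.IsInvertible O1 :=
  (M2.isInvertible_iff_isFinLocFreeOfRank_one _).2 hP.invertible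

theorem isGen_one {T : Scheme.{u}} {V : T.Opens} (v : Γ(Coh.structureModule T, V)) (hv : v = (show Γ(Coh.structureModule T, V) from (1 : Γ(T, V)))) :
    Twist.IsGen (Coh.structureModule T) V v := by
  subst hv
  intro W hW
  have : (fun r : Γ(T, W) => r • mres (Coh.structureModule T) hW (show Γ(Coh.structureModule T, V) from (1 : Γ(T, V)))) =
      fun r => (show Γ(Coh.structureModule T, W) from r) := funext fun r => by
    show r * T.presheaf.map (homOfLE hW).op (1 : Γ(T, V)) = r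
    rw [map_one, mul_one]
  rw [this]
  exact Function.bijective_id

variable {q} (hP : KRR.IsProjBundle π E O1 q) (hE : Coh.IsQCoh E) (hU : IsAffineOpen U)
  (b : Module.Basis (Fin n) Γ(X, U) Γ(E, U))

include hP hE hU in
/-- The charts cover. -/
theorem exists_mem_gl {y : P} (hy : y ∈ π ⁻¹ᵁ U) : ∃ k, y ∈ VA11.gl (sg q (b k)) := by
  by_contra hne
  push Not at hne
  have hinv := invertible q hP
  obtain ⟨V, h0, hyV, g, hg, -⟩ : ∃ (V : P.Opens) (_ : True), y ∈ V ∧ ∃ g : Γ(O1, V), Twist.IsGen O1 V g ∧ True := by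
    obtain ⟨W, e, hyW, -, -, he⟩ := Amp.exists_isGenerator hinv (V := ⊤) (x := y) trivial
    exact ⟨W, trivial, hyW, e, Twist.isGen_of_stalk fun x hx => Amp.gen_of_isGenerator he hx, trivial⟩
  let m := IsLocalRing.maximalIdeal (P.presheaf.stalk y)
  let gy : (O1.presheaf.stalk y : Type u) := O1.presheaf.germ V y hyV g
  let eg := LinearEquiv.ofBijective (LinearMap.toSpanSingleton (P.presheaf.stalk y) _ gy) (hg.stalk hyV)
  have hsg : ∀ l, eg.symm (O1.presheaf.germ (π ⁻¹ᵁ U) y hy (sg q (b l))) ∈ m := fun l => by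
    by_contra hu
    refine hne l ((VA11.mem_gl_iff hinv hy).2 ?_)
    obtain ⟨u, hu'⟩ := IsLocalRing.notMem_maximalIdeal.1 hu
    have h1 : O1.presheaf.germ (π ⁻¹ᵁ U) y hy (sg q (b l)) = (u : P.presheaf.stalk y) • gy := by
      rw [hu']; exact (eg.apply_symm_apply _).symm
    show Function.Bijective fun r : P.presheaf.stalk y => r • (Amp.gm O1 y hy (sg q (b l)))
    rw [show (fun r : P.presheaf.stalk y => r • (Amp.gm O1 y hy (sg q (b l)))) =
      (fun r => r • gy) ∘ fun r => r * (u : P.presheaf.stalk y) from funext fun r => by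
        rw [Function.comp_apply, mul_smul, ← h1]]
    exact (hg.stalk hyV).comp (Units.mulRight u).bijective
  let N : Submodule (P.presheaf.stalk y) (O1.presheaf.stalk y : Type u) := Submodule.map eg.toLinearMap m
  have hN : ∀ v, KFlat.Sch.stk q y v ∈ N := fun v => by
    obtain ⟨w, rfl⟩ := (M2.pullStalkEquiv π y E).surjective v
    induction w using TensorProduct.induction_on with
    | zero => rw [map_zero, map_zero]; exact zero_mem _
    | add a a' ha ha' => rw [map_add, map_add]; exact add_mem ha ha'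
    | tmul c x =>
      rw [show c ⊗ₜ[X.presheaf.stalk (π y)] x = c • ((1 : P.presheaf.stalk y) ⊗ₜ[X.presheaf.stalk (π y)] x) by
        rw [smul_tmul', smul_eq_mul, mul_one], map_smul, map_smul]
      refine N.smul_mem c ?_
      haveI := hE
      letI := stalkModule E (show π y ∈ U from hy)
      haveI := isLocalizedModule_germ E hU (show π y ∈ U from hy)
      obtain ⟨⟨s, d⟩, hd⟩ := IsLocalizedModule.surj (hU.primeIdealOf ⟨π y, hy⟩).asIdeal.primeCompl
        (germₗ E (show π y ∈ U from hy)) x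
      let := TopCat.Presheaf.algebra_section_stalk X.presheaf (⟨π y, hy⟩ : U)
      haveI := hU.isLocalization_stalk ⟨π y, hy⟩
      have hu : IsUnit (algebraMap Γ(X, U) (X.presheaf.stalk (π y)) d.1) := IsLocalization.map_units _ d
      rw [show x = (↑hu.unit⁻¹ : X.presheaf.stalk (π y)) • E.presheaf.germ U (π y) hy s by
        rw [show E.presheaf.germ U (π y) hy s = algebraMap Γ(X, U) (X.presheaf.stalk (π y)) d.1 • x from hd.symm,
          smul_smul, IsUnit.val_inv_mul, one_smul], tmul_smul, ← algebraMap_smul (P.presheaf.stalk y) (↑hu.unit⁻¹ : X.presheaf.stalk (π y)),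
        map_smul, map_smul]
      refine N.smul_mem _ ?_
      rw [← b.sum_repr s, map_sum, tmul_sum, map_sum, map_sum]
      refine N.sum_mem fun l _ => ?_
      rw [germ_smul, tmul_smul, ← algebraMap_smul (P.presheaf.stalk y) (X.presheaf.germ U (π y) hy _), map_smul, map_smul]
      refine N.smul_mem _ ⟨_, hsg l, ?_⟩
      refine (eg.apply_symm_apply _).trans ?_
      rw [M2.pullStalkEquiv_tmul]
      exact (TopCat.Presheaf.stalkFunctor_map_germ_apply (π ⁻¹ᵁ U) y hy ((Scheme.Modules.toPresheaf P).map q) _).symm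
  haveI := hP.epi
  obtain ⟨v, hv⟩ := (epi_iff_stalk q).1 inferInstance y gy
  obtain ⟨r, hr, hrg⟩ := hN v
  have h1 : eg r = eg 1 := by
    refine (hrg.trans ?_)
    exact (hv.trans (show eg 1 = gy by simp [eg]).symm)
  exact (IsLocalRing.maximalIdeal.isMaximal _).ne_top ((Ideal.eq_top_iff_one _).2 (eg.injective h1 ▸ hr))

include hP hE hU in
/-- A point with coordinates. -/
theorem exists_lift [IsAffine T] (g : T ⟶ X) (hg : ⊤ ≤ g ⁻¹ᵁ U) (k : Fin n) (t : Fin n → Γ(T, ⊤)) (htk : t k = 1) :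
    ∃ h : T ⟶ P, h ≫ π = g ∧ ∃ hW : ⊤ ≤ h ⁻¹ᵁ VA11.gl (sg q (b k)),
      ∀ l, h.appLE _ ⊤ hW (VA11.cf (sg q (b k)) (sg q (b l))) = t l := by
  obtain ⟨s, hs⟩ := exists_hom_values hE hU b g hg t
  have hgen : Twist.IsGen (Coh.structureModule T) ⊤ (mres _ hg (s.app (g ⁻¹ᵁ U) (M2.pullSec g E (b k)))) :=
    isGen_one _ ((hs k).trans htk)
  have hepi : Epi s := epi_of_value g s le_rfl (mres _ hg (M2.pullSec g E (b k))) (by rw [app_mres]; exact hgen)
  obtain ⟨h, ⟨hπ, e, he⟩, -⟩ := hP.univ T g (Coh.structureModule T)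
    (M2.isFinLocFreeOfRank_of_iso (M2.freeModOneIso T) (M2.isFinLocFreeOfRank_freeMod T 1)) s hepi
  have hle : (⊤ : T.Opens) ≤ h ⁻¹ᵁ (π ⁻¹ᵁ U) := by
    refine hg.trans ?_
    rw [← hπ]; rfl
  have hval : ∀ l, mres _ hle (e.hom.app _ (M2.pullSec h O1 (sg q (b l)))) = t l := fun l => by
    rw [← hs l, ← he, classify_value q h hπ e.hom (b l), mres_mres]
    rfl
  have hW : ⊤ ≤ h ⁻¹ᵁ VA11.gl (sg q (b k)) := by
    rw [← VA11.gl_pullSec h (invertible q hP), ← VA11.gl_app_iso e]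
    exact VA11.le_gl hle (isGen_one _ ((hval k).trans htk))
  refine ⟨h, hπ, hW, fun l => ?_⟩
  have h0 := congrArg (M2.pullSec h O1) (VA11.cf_smul (sg q (b k)) (sg q (b l)))
  rw [M2.pullSec_smul, ← VA11.mres_pullSec h (VA11.gl_le (sg q (b k))), ← VA11.mres_pullSec h (VA11.gl_le (sg q (b k)))] at h0
  have h1 := congrArg (fun z => mres (Coh.structureModule T) hW (e.hom.app _ z)) h0
  simp only at h1
  rw [Scheme.Modules.Hom.app_smul, mres_smul, app_mres, app_mres,
    mres_mres, mres_mres, show mres _ _ (e.hom.app _ (M2.pullSec h O1 (sg q (b k)))) = t k from hval k,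
    show mres _ _ (e.hom.app _ (M2.pullSec h O1 (sg q (b l)))) = t l from hval l, htk] at h1
  rw [Scheme.Hom.appLE]
  exact (mul_one _).symm.trans h1

include hP hE hU in
/-- Morphisms into a chart are determined by the coordinates. -/
theorem lift_unique (g : T ⟶ X) (hg : ⊤ ≤ g ⁻¹ᵁ U) (k : Fin n) (h₁ h₂ : T ⟶ P) (e₁ : h₁ ≫ π = g) (e₂ : h₂ ≫ π = g)
    (w₁ : ⊤ ≤ h₁ ⁻¹ᵁ VA11.gl (sg q (b k))) (w₂ : ⊤ ≤ h₂ ⁻¹ᵁ VA11.gl (sg q (b k)))
    (heq : ∀ l, h₁.appLE _ ⊤ w₁ (VA11.cf (sg q (b k)) (sg q (b l))) =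
      h₂.appLE _ ⊤ w₂ (VA11.cf (sg q (b k)) (sg q (b l)))) : h₁ = h₂ := by
  have hiso : ∀ (h : T ⟶ P) (w : ⊤ ≤ h ⁻¹ᵁ VA11.gl (sg q (b k))), ∃ e : (Scheme.Modules.pullback h).obj O1 ≅ Coh.structureModule T,
      ∀ l, mres _ (w.trans (h.preimage_mono (VA11.gl_le _))) (e.hom.app _ (M2.pullSec h O1 (sg q (b l)))) =
        h.appLE _ ⊤ w (VA11.cf (sg q (b k)) (sg q (b l))) := by
    intro h w
    let p : Γ((Scheme.Modules.pullback h).obj O1, ⊤) :=
      mres _ (w.trans (h.preimage_mono (VA11.gl_le _))) (M2.pullSec h O1 (sg q (b k)))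
    have hp : Twist.IsGen ((Scheme.Modules.pullback h).obj O1) ⊤ p :=
      VA11.isGen_of_le_gl (w.trans_eq (VA11.gl_pullSec h (invertible q hP) _).symm)
    let one : Γ(Coh.structureModule T, ⊤) := (show Γ(Coh.structureModule T, ⊤) from (1 : Γ(T, ⊤)))
    have hone : Twist.IsGen (Coh.structureModule T) ⊤ one := isGen_one _ rfl
    obtain ⟨e, he⟩ := Twist.exists_iso_of_gen (fun _ : PUnit.{1} => (⊤ : T.Opens)) iSup_const (fun _ => p) (fun _ => one)
      (fun _ => hp) (fun _ => hone) fun i j V hi hj r hr => by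
        have : r = 1 := (hp V hi).1 (by
          show r • mres _ hi p = (1 : Γ(T, V)) • mres _ hi p
          rw [one_smul, ← hr])
        rw [this, one_smul]
    refine ⟨e, fun l => ?_⟩
    have h0 := congrArg (M2.pullSec h O1) (VA11.cf_smul (sg q (b k)) (sg q (b l)))
    rw [M2.pullSec_smul, ← VA11.mres_pullSec h (VA11.gl_le (sg q (b k))), ← VA11.mres_pullSec h (VA11.gl_le (sg q (b k)))] at h0
    have h1 := congrArg (fun z => mres (Coh.structureModule T) w (e.hom.app _ z)) h0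
    simp only at h1
    rw [Scheme.Modules.Hom.app_smul, mres_smul, app_mres, app_mres,
      mres_mres, mres_mres] at h1
    refine h1.symm.trans ?_
    rw [← app_mres]
    erw [he PUnit.unit]
    rw [Scheme.Hom.appLE]
    exact @mul_one Γ(T, ⊤) _ _
  obtain ⟨ψ₁, hψ₁⟩ := hiso h₁ w₁
  obtain ⟨ψ₂, hψ₂⟩ := hiso h₂ w₂
  let cls : ∀ (h : T ⟶ P), h ≫ π = g → ((Scheme.Modules.pullback h).obj O1 ≅ Coh.structureModule T) →
      ((Scheme.Modules.pullback g).obj E ⟶ Coh.structureModule T) := fun h e ψ =>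
    (Scheme.Modules.pullbackCongr e).inv.app E ≫ (Scheme.Modules.pullbackComp h π).inv.app E ≫
      (Scheme.Modules.pullback h).map q ≫ ψ.hom
  haveI := hP.epi
  have hepi : Epi (cls h₁ e₁ ψ₁) := by
    haveI : Epi ((Scheme.Modules.pullback h₁).map q) := inferInstance
    exact epi_comp _ _
  have heq' : cls h₁ e₁ ψ₁ = cls h₂ e₂ ψ₂ := hom_ext_basis hE hU b g hg _ _ fun l => by
    have hgU : g ⁻¹ᵁ U ≤ ⊤ := le_top
    have key : ∀ (h : T ⟶ P) (e : h ≫ π = g) (ψ : (Scheme.Modules.pullback h).obj O1 ≅ Coh.structureModule T)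
        (w : ⊤ ≤ h ⁻¹ᵁ VA11.gl (sg q (b k))) (_ : ∀ l, mres _ (w.trans (h.preimage_mono (VA11.gl_le _)))
          (ψ.hom.app _ (M2.pullSec h O1 (sg q (b l)))) = h.appLE _ ⊤ w (VA11.cf (sg q (b k)) (sg q (b l)))),
        (cls h e ψ).app (g ⁻¹ᵁ U) (M2.pullSec g E (b l)) =
          mres (Coh.structureModule T) hgU (h.appLE _ ⊤ w (VA11.cf (sg q (b k)) (sg q (b l)))) := by
      intro h e ψ w hψ
      rw [classify_value q h e ψ.hom (b l), ← hψ l, mres_mres]
      rfl
    rw [key h₁ e₁ ψ₁ w₁ hψ₁, key h₂ e₂ ψ₂ w₂ hψ₂, heq l]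
  obtain ⟨h₀, -, hu⟩ := hP.univ T g (Coh.structureModule T)
    (M2.isFinLocFreeOfRank_of_iso (M2.freeModOneIso T) (M2.isFinLocFreeOfRank_freeMod T 1)) _ hepi
  exact (hu h₁ ⟨e₁, ψ₁, rfl⟩).trans (hu h₂ ⟨e₂, ψ₂, heq'.symm⟩).symm

variable {m : ℕ} (c : Module.Basis (Fin (m + 1)) Γ(X, U) Γ(E, U)) (k : Fin (m + 1))

theorem gl_le_preimage : VA11.gl (sg q (c k)) ≤ π ⁻¹ᵁ U := VA11.gl_le _

/-- The coordinate ring map of a chart. -/
def chartHom : MvPolynomial (Fin m) Γ(X, U) →+* Γ(P, VA11.gl (sg q (c k))) :=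
  MvPolynomial.eval₂Hom (π.appLE U _ (gl_le_preimage c k)).hom
    fun i => VA11.cf (sg q (c k)) (sg q (c (k.succAbove i)))

include hP hE hU in
set_option maxHeartbeats 1000000 in
/-- The chart is affine space. -/
theorem chart : IsAffineOpen (VA11.gl (sg q (c k))) ∧ Function.Bijective (chartHom (q := q) c k) := by
  let W := VA11.gl (sg q (c k))
  let R := CommRingCat.of (MvPolynomial (Fin m) Γ(X, U))
  let ρ : R ⟶ Γ(P, W) := CommRingCat.ofHom (chartHom (q := q) c k)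
  let g : Spec R ⟶ X := Spec.map (CommRingCat.ofHom (MvPolynomial.C : Γ(X, U) →+* MvPolynomial (Fin m) Γ(X, U))) ≫ hU.fromSpec
  have hgU : ⊤ ≤ g ⁻¹ᵁ U := fun x _ => by
    show hU.fromSpec _ ∈ U
    rw [← SetLike.mem_coe, ← hU.range_fromSpec]
    exact Set.mem_range_self _
  let t : Fin (m + 1) → Γ(Spec R, ⊤) :=
    Fin.insertNth (α := fun _ => Γ(Spec R, ⊤)) k 1 (fun i => (Scheme.ΓSpecIso R).inv (MvPolynomial.X i : MvPolynomial (Fin m) Γ(X, U)))
  obtain ⟨h, hπ, hW, hh⟩ := exists_lift hP hE hU c g hgU k t (Fin.insertNth_apply_same (α := fun _ => Γ(Spec R, ⊤)) k 1 _)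
  let θ : W.toScheme ⟶ Spec R := W.toSpecΓ ≫ Spec.map ρ
  have hθtop : θ.appTop = (Scheme.ΓSpecIso R).hom ≫ ρ ≫ W.topIso.inv := by
    rw [Scheme.Hom.comp_appTop, Scheme.Opens.toSpecΓ_appTop]
    exact Scheme.ΓSpecIso_naturality_assoc _ _
  let h' : Spec R ⟶ W.toScheme := IsOpenImmersion.lift W.ι h (by
    rw [Scheme.Opens.range_ι]; rintro _ ⟨x, rfl⟩; exact hW (Set.mem_univ x))
  have hh' : h' ≫ W.ι = h := IsOpenImmersion.lift_fac _ _ _
  have hι : W.ι.appLE W ⊤ (fun x _ => x.2) = W.topIso.inv := by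
    simp [Scheme.Opens.ι_appLE, Scheme.Opens.topIso_inv]; rfl
  have hh'top : W.topIso.inv ≫ h'.appTop = h.appLE W ⊤ hW := by
    rw [← hι, BlowUpExist.appTop_eq_appLE, Scheme.Hom.appLE_comp_appLE]
    simp only [hh']
  have hgC : ∀ a : Γ(X, U), g.appLE U ⊤ hgU a =
      (Scheme.ΓSpecIso R).inv (MvPolynomial.C a : MvPolynomial (Fin m) Γ(X, U)) := fun a => by
    have e1 : hU.fromSpec.appLE U ⊤ (by rw [hU.fromSpec_preimage_self]) = (Scheme.ΓSpecIso Γ(X, U)).inv := by
      rw [Scheme.Hom.appLE, hU.fromSpec_app_self, Category.assoc, ← Functor.map_comp]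
      simp
    have e2 : g.appLE U ⊤ hgU = hU.fromSpec.appLE U ⊤ (by rw [hU.fromSpec_preimage_self]) ≫
        (Spec.map (CommRingCat.ofHom (MvPolynomial.C : Γ(X, U) →+* MvPolynomial (Fin m) Γ(X, U)))).appLE ⊤ ⊤ le_rfl :=
      (Scheme.Hom.appLE_comp_appLE _ _ _ _ _ _ _).symm
    rw [e2, e1, ← BlowUpExist.appTop_eq_appLE]
    exact (ConcreteCategory.congr_hom (Scheme.ΓSpecIso_inv_naturality
      (CommRingCat.ofHom (MvPolynomial.C : Γ(X, U) →+* MvPolynomial (Fin m) Γ(X, U)))) a).symm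
  have h1 : h' ≫ θ = 𝟙 _ := by
    refine ext_of_isAffine ?_
    rw [Scheme.Hom.comp_appTop, hθtop, Category.assoc, Category.assoc, hh'top, Scheme.Hom.id_appTop,
      ← Iso.eq_inv_comp, Category.comp_id]
    ext1
    refine MvPolynomial.ringHom_ext (fun a => ?_) fun i => ?_
    · show h.appLE W ⊤ hW (chartHom (q := q) c k (MvPolynomial.C a)) = (Scheme.ΓSpecIso R).inv _
      rw [chartHom, MvPolynomial.eval₂Hom_C, ← hgC a]
      simp only [← hπ]
      exact ConcreteCategory.congr_hom (Scheme.Hom.appLE_comp_appLE h π U W ⊤ (gl_le_preimage (q := q) c k) hW) a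
    · show h.appLE W ⊤ hW (chartHom (q := q) c k (MvPolynomial.X i)) = (Scheme.ΓSpecIso R).inv _
      rw [chartHom, MvPolynomial.eval₂Hom_X', hh]
      exact Fin.insertNth_apply_succAbove (α := fun _ => Γ(Spec R, ⊤)) k 1 _ i
  have hθρ : ∀ z : R, θ.appTop ((Scheme.ΓSpecIso R).inv z) = W.topIso.inv (ρ z) := fun z => by
    rw [hθtop]
    simp
  have hθU : ⊤ ≤ (W.ι ≫ π) ⁻¹ᵁ U := fun x _ => gl_le_preimage (q := q) c k x.2
  have hθπ : (θ ≫ h) ≫ π = W.ι ≫ π := by
    rw [Category.assoc, hπ]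
    refine BlowUpExist.eq_of_appLE_eq hU (fun x _ => hgU (Set.mem_univ (θ x))) hθU ?_
    rw [← Scheme.Hom.appLE_comp_appLE θ g U ⊤ ⊤ hgU le_rfl,
      ← Scheme.Hom.appLE_comp_appLE W.ι π U W ⊤ (gl_le_preimage (q := q) c k) (fun x _ => x.2), hι, ← BlowUpExist.appTop_eq_appLE]
    ext a
    show θ.appTop (g.appLE U ⊤ hgU a) = W.topIso.inv (π.appLE U W _ a)
    rw [hgC, hθρ]
    exact congrArg _ (MvPolynomial.eval₂Hom_C _ _ _)
  have h2 : θ ≫ h' = 𝟙 _ := by
    rw [← cancel_mono W.ι, Category.assoc, hh', Category.id_comp]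
    have hw₁ : ⊤ ≤ (θ ≫ h) ⁻¹ᵁ W := fun x _ => hW (Set.mem_univ (θ x))
    refine lift_unique hP hE hU c (W.ι ≫ π) hθU k _ _ hθπ rfl hw₁ (fun x _ => x.2) fun l => ?_
    rw [← Scheme.Hom.appLE_comp_appLE θ h W ⊤ ⊤ hW le_rfl, hι, CommRingCat.comp_apply, hh l, ← BlowUpExist.appTop_eq_appLE]
    refine Fin.succAboveCases k ?_ (fun i => ?_) l
    · rw [show t k = 1 from Fin.insertNth_apply_same (α := fun _ => Γ(Spec R, ⊤)) k 1 _, map_one, VA11.cf_self, map_one]
    · rw [show t (k.succAbove i) = _ from Fin.insertNth_apply_succAbove (α := fun _ => Γ(Spec R, ⊤)) k 1 _ i, hθρ]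
      exact congrArg _ (MvPolynomial.eval₂Hom_X' _ _ _)
  haveI : IsIso θ := ⟨h', h2, h1⟩
  haveI : IsAffine W.toScheme := IsAffine.of_isIso θ
  refine ⟨show IsAffineOpen W from inferInstanceAs (IsAffine W.toScheme), ?_⟩
  haveI : IsIso θ.appTop := inferInstance
  have hρ : ρ = (Scheme.ΓSpecIso R).inv ≫ θ.appTop ≫ W.topIso.hom := by rw [hθtop]; simp
  have : IsIso ρ := by rw [hρ]; infer_instance
  exact ConcreteCategory.bijective_of_isIso ρ

end Groth.Agent.PBundle2
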