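import Groth.Agent.Lib.VeryAmple11.BundleTwist
import Groth.Agent.Lib.AffHom12.Basic
import Groth.Agent.Lib.PP12.AffineOps
import Groth.Agent.Lib.KFlat.Pullback
import Groth.Agent.Lib.TensorMod.Invertible
import Groth.Prelude.Def_KRR

/-!
Homomorphisms out of the inverse image of a module with a basis over an affine open.
-/

set_option autoImplicit false
set_option linter.style.haveILetI false
set_option backward.isDefEq.respectTransparency false
set_option backward.isDefEq.respectTransparency.types false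

universe u

open CategoryTheory Limits AlgebraicGeometry TopologicalSpace Opposite TensorProduct

noncomputable section

namespace Groth.Agent.PBundle2

open Groth.Agent.M1

variable {X T P : Scheme.{u}} {E : X.Modules} {U : X.Opens} {n : ℕ}

/-- Homomorphisms out of an inverse image are determined by the inverse images of a basis. -/
theorem hom_ext_basis (hE : Coh.IsQCoh E) (hU : IsAffineOpen U) (b : Module.Basis (Fin n) Γ(X, U) Γ(E, U))
    (g : T ⟶ X) (hg : ⊤ ≤ g ⁻¹ᵁ U) {L : T.Modules} (φ φ' : (Scheme.Modules.pullback g).obj E ⟶ L)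
    (h : ∀ l, φ.app (g ⁻¹ᵁ U) (M2.pullSec g E (b l)) = φ'.app (g ⁻¹ᵁ U) (M2.pullSec g E (b l))) : φ = φ' := by
  refine VA11.hom_ext_affine _ _ fun V _ m => section_ext (φ.app V m) (φ'.app V m) fun y hy => ?_
  have hyU : g y ∈ U := hg (Set.mem_univ y)
  let L₁ := KFlat.Sch.stk φ y
  let L₂ := KFlat.Sch.stk φ' y
  have hgm : ∀ (χ : (Scheme.Modules.pullback g).obj E ⟶ L) (W : T.Opens) (hW : y ∈ W) (x : Γ((Scheme.Modules.pullback g).obj E, W)),
      KFlat.Sch.stk χ y (((Scheme.Modules.pullback g).obj E).presheaf.germ W y hW x) = L.presheaf.germ W y hW (χ.app W x) :=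
    fun χ W hW x => TopCat.Presheaf.stalkFunctor_map_germ_apply W y hW ((Scheme.Modules.toPresheaf T).map χ) x
  suffices key : L₁ = L₂ by
    rw [← hgm φ V hy m, ← hgm φ' V hy m]
    exact LinearMap.congr_fun key _
  refine LinearMap.ext fun v => ?_
  obtain ⟨w, rfl⟩ := (M2.pullStalkEquiv g y E).surjective v
  induction w using TensorProduct.induction_on with
  | zero => rw [map_zero, map_zero, map_zero]
  | add a a' ha ha' => rw [map_add, map_add, map_add, ha, ha']
  | tmul c m =>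
    rw [show c ⊗ₜ[X.presheaf.stalk (g y)] m = c • ((1 : T.presheaf.stalk y) ⊗ₜ[X.presheaf.stalk (g y)] m) by
      rw [smul_tmul', smul_eq_mul, mul_one], map_smul, map_smul, map_smul]
    congr 1
    let e := M2.pullStalkEquiv g y E
    let Λ : ∀ m, L₁ (e ((1 : T.presheaf.stalk y) ⊗ₜ m)) = L₂ (e (1 ⊗ₜ m)) → ∀ r : X.presheaf.stalk (g y),
        L₁ (e (1 ⊗ₜ (r • m))) = L₂ (e (1 ⊗ₜ (r • m))) := fun m hm r => by
      rw [tmul_smul, ← algebraMap_smul (T.presheaf.stalk y) r, map_smul, map_smul, map_smul, hm]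
    have hgen : ∀ l, L₁ (e (1 ⊗ₜ E.presheaf.germ U (g y) hyU (b l))) = L₂ (e (1 ⊗ₜ E.presheaf.germ U (g y) hyU (b l))) := by
      intro l
      simp only [e, M2.pullStalkEquiv_tmul]
      exact (hgm φ _ hyU _).trans ((congrArg _ (h l)).trans (hgm φ' _ hyU _).symm)
    haveI := hE
    obtain ⟨s, hs⟩ : ∃ (s : Γ(E, U)), ∃ r : X.presheaf.stalk (g y), r • E.presheaf.germ U (g y) hyU s = m := by
      letI := stalkModule E hyU
      haveI := isLocalizedModule_germ E hU hyU
      obtain ⟨⟨s, d⟩, hd⟩ := IsLocalizedModule.surj (hU.primeIdealOf ⟨g y, hyU⟩).asIdeal.primeCompl (germₗ E hyU) m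
      let := TopCat.Presheaf.algebra_section_stalk X.presheaf (⟨g y, hyU⟩ : U)
      haveI := hU.isLocalization_stalk ⟨g y, hyU⟩
      have hu : IsUnit (algebraMap Γ(X, U) (X.presheaf.stalk (g y)) d.1) := IsLocalization.map_units _ d
      refine ⟨s, ↑hu.unit⁻¹, ?_⟩
      rw [show E.presheaf.germ U (g y) hyU s = algebraMap Γ(X, U) (X.presheaf.stalk (g y)) d.1 • m from hd.symm,
        smul_smul, IsUnit.val_inv_mul, one_smul]
    obtain ⟨r, rfl⟩ := hs
    refine Λ _ ?_ r
    conv => lhs; rw [← b.sum_repr s, map_sum, tmul_sum, map_sum, map_sum]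
    conv => rhs; rw [← b.sum_repr s, map_sum, tmul_sum, map_sum, map_sum]
    refine Finset.sum_congr rfl fun l _ => ?_
    rw [germ_smul]
    exact Λ _ (hgen l) _

/-- A homomorphism to the structure sheaf with prescribed values on a basis. -/
theorem exists_hom_values [IsAffine T] (hE : Coh.IsQCoh E) (hU : IsAffineOpen U)
    (b : Module.Basis (Fin n) Γ(X, U) Γ(E, U)) (g : T ⟶ X) (hg : ⊤ ≤ g ⁻¹ᵁ U) (t : Fin n → Γ(T, ⊤)) :
    ∃ s : (Scheme.Modules.pullback g).obj E ⟶ Coh.structureModule T, ∀ l,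
      mres (Coh.structureModule T) hg (s.app (g ⁻¹ᵁ U) (M2.pullSec g E (b l))) = t l := by
  letI : Algebra Γ(X, U) Γ(T, ⊤) := (g.appLE U ⊤ hg).hom.toAlgebra
  letI := PullBC11.baseModule (g := g) ((Scheme.Modules.pullback g).obj E) hg
  letI := PullBC11.baseModule (g := g) (Coh.structureModule T) hg
  haveI : IsScalarTower Γ(X, U) Γ(T, ⊤) Γ((Scheme.Modules.pullback g).obj E, ⊤) :=
    IsScalarTower.of_algebraMap_smul fun _ _ => rfl
  haveI : IsScalarTower Γ(X, U) Γ(T, ⊤) Γ(Coh.structureModule T, ⊤) :=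
    IsScalarTower.of_algebraMap_smul fun _ _ => rfl
  have hbc : IsBaseChange Γ(T, ⊤) (PullBC11.sect (PP12.unitTo g E) hg) := PP12.isBC_unit g hE hU (isAffineOpen_top T) hg
  let ℓ := hbc.lift (b.constr Γ(X, U) (fun l => (show Γ(Coh.structureModule T, ⊤) from t l)))
  obtain ⟨s, hs⟩ := AffHom12.exists_hom_top (M1.isQCoh_pullback g hE) (H := Coh.structureModule T) ℓ.toAddMonoidHom
    (fun r x => ℓ.map_smul r x)
  refine ⟨s, fun l => ?_⟩
  rw [← app_mres]
  refine (hs _).trans ?_
  show ℓ (PullBC11.sect (PP12.unitTo g E) hg (b l)) = t l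
  rw [IsBaseChange.lift_eq, Module.Basis.constr_basis]

/-- A homomorphism to an invertible module which takes a generator as a value is an epimorphism. -/
theorem epi_of_value (g : T ⟶ X) {L : T.Modules} (s : (Scheme.Modules.pullback g).obj E ⟶ L) {V : T.Opens}
    (hV : ⊤ ≤ V) (x : Γ((Scheme.Modules.pullback g).obj E, V)) (hx : Twist.IsGen L V (s.app V x)) : Epi s := by
  refine (epi_iff_stalk _).2 fun y a => ?_
  obtain ⟨c, hc⟩ := (hx.stalk (hV (Set.mem_univ y))).2 a
  refine ⟨c • ((Scheme.Modules.pullback g).obj E).presheaf.germ V y (hV (Set.mem_univ y)) x, ?_⟩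
  refine ((KFlat.Sch.stk s y).map_smul c _).trans (Eq.trans ?_ hc)
  exact congrArg (c • ·) (TopCat.Presheaf.stalkFunctor_map_germ_apply V y _ ((Scheme.Modules.toPresheaf T).map s) x)

/-- The value of a classified quotient on the inverse image of a section. -/
theorem classify_value {π : P ⟶ X} {O1 : P.Modules} (q : (Scheme.Modules.pullback π).obj E ⟶ O1) {g : T ⟶ X}
    (h : T ⟶ P) (hg : h ≫ π = g) {L : T.Modules} (ψ : (Scheme.Modules.pullback h).obj O1 ⟶ L) {W : X.Opens}
    (e : Γ(E, W)) :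
    ((Scheme.Modules.pullbackCongr hg).inv.app E ≫ (Scheme.Modules.pullbackComp h π).inv.app E ≫
        (Scheme.Modules.pullback h).map q ≫ ψ).app (g ⁻¹ᵁ W) (M2.pullSec g E e) =
      mres L (show g ⁻¹ᵁ W ≤ h ⁻¹ᵁ (π ⁻¹ᵁ W) by rw [← hg]; rfl)
        (ψ.app (h ⁻¹ᵁ (π ⁻¹ᵁ W)) (M2.pullSec h O1 (q.app (π ⁻¹ᵁ W) (M2.pullSec π E e)))) := by
  subst hg
  simp only [Scheme.Modules.pullbackCongr, eqToIso_refl, Iso.refl_inv, NatTrans.id_app, Category.id_comp, comp_app_apply]
  refine (congrArg (ψ.app _) (VA11.comp_map_pullSec h π q e)).trans ?_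
  exact (mres_id _ _ _).symm

end Groth.Agent.PBundle2
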